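import Groth.Prelude.Def_StrictSS
import Groth.Agent.FlatMorLocalStr.SmoothFibres
import Groth.Agent.Props12.KerReduced
import Groth.Agent.Stk19b.RedInd

/-!
# The irreducible components of a strictly semistable curve over a field are smooth
-/

set_option autoImplicit false
set_option linter.style.haveILetI false
set_option backward.isDefEq.respectTransparency false
set_option backward.isDefEq.respectTransparency.types false
set_option maxHeartbeats 1000000

universe u

open CategoryTheory CategoryTheory.Limits AlgebraicGeometry TopologicalSpace StrictSS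

namespace Groth.Agent.StrictSS7

variable {k : Type u} [Field k]

/-- A component contained in a smooth closed subscheme agrees with it near each of its points. -/
theorem exists_nhd {Y L : Scheme.{u}} (e : L ⟶ Y) [IsClosedImmersion e] (pL : L ⟶ Spec (CommRingCat.of k))
    [Smooth pL] {Z : Set Y} (hZ : Z ∈ irreducibleComponents Y) (hZe : Z ⊆ Set.range e) :
    ∃ O : Y.Opens, Z ⊆ O ∧ Set.range e ∩ O = Z ∩ O := by
  haveI := LocallyOfFiniteType.isLocallyNoetherian pL
  have hemb := e.isClosedEmbedding.isEmbedding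
  have himg : e '' (e ⁻¹' Z) = Z := Set.image_preimage_eq_of_subset hZe
  have hcomp : e ⁻¹' Z ∈ irreducibleComponents L := by
    refine ⟨⟨?_, ?_⟩, fun S hS hle z hz => ?_⟩
    · obtain ⟨z, hz⟩ := hZ.1.nonempty
      obtain ⟨l, rfl⟩ := hZe hz
      exact ⟨l, hz⟩
    · intro P Q hP hQ ⟨a, ha, haP⟩ ⟨b, hb, hbQ⟩
      obtain ⟨P', hP', rfl⟩ := hemb.isInducing.isOpen_iff.1 hP
      obtain ⟨Q', hQ', rfl⟩ := hemb.isInducing.isOpen_iff.1 hQ
      obtain ⟨c, hc, hcP, hcQ⟩ := hZ.1.2 P' Q' hP' hQ' ⟨e a, ha, haP⟩ ⟨e b, hb, hbQ⟩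
      obtain ⟨l, rfl⟩ := hZe hc
      exact ⟨l, hc, hcP, hcQ⟩
    · exact hZ.2 (hS.image e e.continuous.continuousOn)
        (himg ▸ Set.image_mono hle) ⟨z, hz, rfl⟩
  have ho : IsOpen (e ⁻¹' Z) := NeronLib.isOpen_component_of_normal
    (FlatMorLocalStr.isNormalScheme_of_smooth_field pL) hcomp
  obtain ⟨O, hO, hOZ⟩ := hemb.isInducing.isOpen_iff.1 ho
  refine ⟨⟨O, hO⟩, fun z hz => ?_, Set.Subset.antisymm ?_ fun z hz => ⟨hZe hz.1, hz.2⟩⟩
  · obtain ⟨l, rfl⟩ := hZe hz
    exact (Set.ext_iff.1 hOZ l).2 hz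
  · rintro z ⟨⟨l, rfl⟩, hl⟩
    exact ⟨(Set.ext_iff.1 hOZ l).1 hl, hl⟩

/-- The coordinate rings of the two branches. -/
theorem exists_branches {A : Type u} [CommRing A] (a : A) (hA : IsField A) :
    ∃ (ι : Type) (B : ι → CommRingCat.{u}) (g : ∀ j, Spec (B j) ⟶ Spec (CommRingCat.of (NodeAlg A a))),
      (∀ j, IsClosedImmersion (g j)) ∧ (∀ j, Smooth (g j ≫ nodeToBase A a)) ∧ Finite ι ∧
        ∀ p, ∃ j, p ∈ Set.range (g j) := by
  let X' : Fin 2 → NodeAlg A a := fun i => Ideal.Quotient.mk _ (MvPolynomial.X i)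
  have hrel : X' 0 * X' 1 = algebraMap A _ a := by
    rw [← map_mul, IsScalarTower.algebraMap_apply A (MvPolynomial (Fin 2) A) (NodeAlg A a),
      Ideal.Quotient.algebraMap_eq, Ideal.Quotient.eq]
    exact Ideal.subset_span rfl
  have hgen : ∀ {B : Type u} [CommRing B] [Algebra A B] (φ ψ : NodeAlg A a →ₐ[A] B),
      φ (X' 0) = ψ (X' 0) → φ (X' 1) = ψ (X' 1) → φ = ψ := fun φ ψ h0 h1 =>
    Ideal.Quotient.algHom_ext _ (MvPolynomial.algHom_ext fun i => by fin_cases i <;> assumption)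
  have hlift : ∀ {B : Type u} [CommRing B] [Algebra A B] (b : Fin 2 → B), b 0 * b 1 = algebraMap A B a →
      ∃ φ : NodeAlg A a →ₐ[A] B, ∀ i, φ (X' i) = b i := fun b hb =>
    ⟨Ideal.Quotient.liftₐ _ (MvPolynomial.aeval b) (fun x hx => by
      obtain ⟨c, rfl⟩ := Ideal.mem_span_singleton.1 hx
      simp [hb]), fun i => MvPolynomial.aeval_X b i⟩
  by_cases ha : a = 0
  · subst ha
    have h : ∀ j : Fin 2, ∃ φ : NodeAlg A 0 →ₐ[A] Polynomial A, φ (X' j) = Polynomial.X ∧ φ (X' (1 - j)) = 0 := by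
      intro j
      fin_cases j
      · obtain ⟨φ, hφ⟩ := hlift (B := Polynomial A) ![Polynomial.X, 0] (by simp)
        exact ⟨φ, by simp [hφ], by simp [hφ]⟩
      · obtain ⟨φ, hφ⟩ := hlift (B := Polynomial A) ![0, Polynomial.X] (by simp)
        exact ⟨φ, by simp [hφ], by simp [hφ]⟩
    choose φ hφ hφ' using h
    have hsurj : ∀ j, Function.Surjective (φ j) := fun j => by
      rw [← AlgHom.range_eq_top, eq_top_iff, ← Polynomial.adjoin_X, Algebra.adjoin_le_iff]
      rintro _ rfl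
      exact ⟨_, hφ j⟩
    have hker : ∀ j x, φ j x = 0 → x ∈ Ideal.span {X' (1 - j)} := by
      intro j x hx
      let σ : Polynomial A →ₐ[A] NodeAlg A 0 ⧸ Ideal.span {X' (1 - j)} :=
        Polynomial.aeval (Ideal.Quotient.mk _ (X' j))
      have h2 : σ.comp (φ j) = Ideal.Quotient.mkₐ A (Ideal.span {X' (1 - j)}) := by
        have h0 : (Ideal.Quotient.mk (Ideal.span {X' (1 - j)})) (X' (1 - j)) = 0 :=
          Ideal.Quotient.eq_zero_iff_mem.2 (Ideal.subset_span rfl)
        refine hgen (B := NodeAlg A 0 ⧸ Ideal.span {X' (1 - j)}) (σ.comp (φ j)) (Ideal.Quotient.mkₐ A (Ideal.span {X' (1 - j)})) ?_ ?_ <;> fin_cases j <;> simp [σ, hφ, hφ'] <;> simp_all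
      have h3 := AlgHom.congr_fun h2 x
      rw [AlgHom.comp_apply, hx] at h3
      exact Ideal.Quotient.eq_zero_iff_mem.1 (h3.symm.trans (map_zero σ))
    refine ⟨Fin 2, fun _ => CommRingCat.of (Polynomial A), fun j => Spec.map (CommRingCat.ofHom (φ j).toRingHom),
      fun j => IsClosedImmersion.spec_of_surjective _ (hsurj j), fun j => ?_, inferInstance, fun p => ?_⟩
    · rw [nodeToBase, ← Spec.map_comp, ← CommRingCat.ofHom_comp, AlgHom.toRingHom_eq_coe, AlgHom.comp_algebraMap,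
        HasRingHomProperty.Spec_iff (P := @Smooth)]
      haveI : Algebra.Smooth A (Polynomial A) := ⟨inferInstance, inferInstance⟩
      exact RingHom.smooth_algebraMap.2 ‹_›
    · have hmem : X' 0 ∈ p.asIdeal ∨ X' 1 ∈ p.asIdeal :=
        p.2.mem_or_mem (by
          have h0 : X' 0 * X' 1 = 0 := hrel.trans (map_zero _)
          exact h0 ▸ zero_mem p.asIdeal)
      obtain ⟨j, hj⟩ : ∃ j : Fin 2, X' (1 - j) ∈ p.asIdeal := by
        rcases hmem with h | h
        · exact ⟨1, h⟩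
        · exact ⟨0, h⟩
      refine ⟨j, ?_⟩
      show p ∈ Set.range (PrimeSpectrum.comap (φ j).toRingHom)
      rw [range_comap_of_surjective _ _ (hsurj j), PrimeSpectrum.mem_zeroLocus]
      exact fun x hx => ((Ideal.span_singleton_le_iff_mem _).2 hj) (hker j x hx)
  · obtain ⟨a', ha'⟩ := hA.mul_inv_cancel ha
    let B := Localization.Away (Polynomial.X : Polynomial A)
    let T : B := algebraMap (Polynomial A) B Polynomial.X
    let T' : B := IsLocalization.Away.invSelf (Polynomial.X : Polynomial A)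
    have hT : T * T' = 1 := IsLocalization.Away.mul_invSelf (Polynomial.X : Polynomial A)
    obtain ⟨φ, hφ⟩ := hlift ![T, algebraMap A B a * T'] (by
      show T * (algebraMap A B a * T') = _
      rw [mul_left_comm, hT, mul_one])
    have hu : IsUnit (Polynomial.aeval (X' 0) (Polynomial.X : Polynomial A)) := by
      rw [Polynomial.aeval_X]
      exact IsUnit.of_mul_eq_one (X' 1 * algebraMap A _ a') (by rw [← mul_assoc, hrel, ← map_mul, ha', map_one])
    let σ₀ : B →+* NodeAlg A a := IsLocalization.Away.lift (Polynomial.X : Polynomial A) (g := (Polynomial.aeval (X' 0)).toRingHom) hu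
    have hc : ∀ c, σ₀ (algebraMap A B c) = algebraMap A (NodeAlg A a) c := fun c => by
      rw [IsScalarTower.algebraMap_apply A (Polynomial A) B, IsLocalization.Away.lift_eq]
      simp
    let σ : B →ₐ[A] NodeAlg A a := { σ₀ with commutes' := hc }
    have hσT : σ T = X' 0 := by
      show σ₀ (algebraMap (Polynomial A) B Polynomial.X) = _
      rw [IsLocalization.Away.lift_eq]
      simp
    have hl : σ.comp φ = AlgHom.id A _ := by
      have e0 : σ (φ (X' 0)) = X' 0 := by rw [hφ]; exact hσT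
      refine hgen _ _ e0 ?_
      show σ (φ (X' 1)) = X' 1
      have e1 : X' 0 * σ (φ (X' 1)) = X' 0 * X' 1 := by
        conv_lhs => rw [← e0]
        rw [← map_mul, ← map_mul, hrel, AlgHom.commutes, AlgHom.commutes]
      exact (Polynomial.aeval_X (R := A) (X' 0) ▸ hu).mul_left_cancel e1
    have hr : φ.comp σ = AlgHom.id A _ := by
      refine IsLocalization.algHom_ext (Submonoid.powers (Polynomial.X : Polynomial A)) (Polynomial.algHom_ext ?_)
      show φ (σ T) = T
      rw [hσT, hφ]; rfl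
    let e : NodeAlg A a ≃ₐ[A] B := AlgEquiv.ofAlgHom φ σ hr hl
    haveI : IsIso (CommRingCat.ofHom φ.toRingHom) := e.toRingEquiv.toCommRingCatIso.isIso_hom
    refine ⟨Unit, fun _ => CommRingCat.of B, fun _ => Spec.map (CommRingCat.ofHom φ.toRingHom),
      fun _ => inferInstance, fun _ => ?_, inferInstance, fun p => ⟨(), (Spec.map (CommRingCat.ofHom φ.toRingHom)).surjective p⟩⟩
    rw [nodeToBase, ← Spec.map_comp, ← CommRingCat.ofHom_comp, AlgHom.toRingHom_eq_coe, AlgHom.comp_algebraMap,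
      HasRingHomProperty.Spec_iff (P := @Smooth)]
    haveI : Algebra.Smooth A (Polynomial A) := ⟨inferInstance, inferInstance⟩
    haveI : Algebra.Smooth (Polynomial A) B := Algebra.Smooth.of_isLocalization_Away Polynomial.X
    exact RingHom.smooth_algebraMap.2 (Algebra.Smooth.comp A (Polynomial A) B)

variable {C D : Scheme.{u}} {φ : C ⟶ Spec (CommRingCat.of k)} {i : D ⟶ C}

/-- Near each of its points a component is a smooth closed subscheme. -/
theorem exists_local (x : C) (hx : HasLineChartAt φ i x ∨ HasNodeChartAt φ i x)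
    (Z : Set C) (hZ : Z ∈ irreducibleComponents (C : Type u)) (hxZ : x ∈ Z) :
    ∃ (O : C.Opens) (L : Scheme.{u}) (e : L ⟶ C), x ∈ O ∧ IsClosedImmersion (e ∣_ O) ∧ Smooth (e ≫ φ) ∧
      Set.range e ∩ O = Z ∩ O := by
  suffices ∃ (U : C.Opens) (L : Scheme.{u}) (e : L ⟶ U), x ∈ U ∧ IsClosedImmersion e ∧ Smooth (e ≫ U.ι ≫ φ) ∧
      U.ι ⁻¹' Z ⊆ Set.range e by
    obtain ⟨U, L, e, hxU, he, hsm, hsub⟩ := this
    obtain ⟨O, hZO, hO⟩ := exists_nhd e (e ≫ U.ι ≫ φ)
      (preimage_mem_irreducibleComponents hZ U.ι.isOpenEmbedding ⟨x, hxZ, ⟨x, hxU⟩, rfl⟩) hsub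
    refine ⟨U.ι ''ᵁ O, L, e ≫ U.ι, ⟨⟨x, hxU⟩, hZO hxZ, rfl⟩, ?_, by rwa [Category.assoc], ?_⟩
    · haveI : IsIso (U.ι ∣_ U.ι ''ᵁ O) := by
        refine isIso_of_isOpenImmersion_of_opensRange_eq_top _ (top_le_iff.1 fun p _ => ?_)
        obtain ⟨q, -, hq⟩ := p.2
        exact ⟨⟨q, show U.ι q ∈ U.ι ''ᵁ O from hq.symm ▸ p.2⟩, Subtype.ext ((morphismRestrict_base_coe _ _ _).trans hq)⟩
      rw [morphismRestrict_comp]
      haveI : IsClosedImmersion (e ∣_ U.ι ⁻¹ᵁ (U.ι ''ᵁ O)) := IsZariskiLocalAtTarget.restrict he _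
      infer_instance
    · ext z
      constructor
      · rintro ⟨⟨l, rfl⟩, q, hq, hql⟩
        refine ⟨?_, q, hq, hql⟩
        have : q = e l := Subtype.ext hql
        subst this
        exact ((Set.ext_iff.1 hO (e l)).1 ⟨⟨l, rfl⟩, hq⟩).1
      · rintro ⟨hz, q, hq, rfl⟩
        obtain ⟨⟨l, rfl⟩, -⟩ := (Set.ext_iff.1 hO q).2 ⟨hz, hq⟩
        exact ⟨⟨l, rfl⟩, _, hq, rfl⟩
  rcases hx with ⟨A, j, hj, U, hxU, q, hq, f, -, hf, hfq, -, -⟩ | ⟨A, j, hj, U, hxU, q, hq, a, f, hf, hfq, -⟩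
  · refine ⟨U, U, 𝟙 _, hxU, inferInstance, ?_, fun p _ => ⟨p, rfl⟩⟩
    haveI : Smooth (lineToBase A) := by
      rw [HasRingHomProperty.Spec_iff (P := @Smooth)]
      haveI : Algebra.Smooth A (Polynomial A) := ⟨inferInstance, inferInstance⟩
      exact RingHom.smooth_algebraMap.2 ‹_›
    rw [Category.id_comp, hq, ← hfq]
    infer_instance
  · haveI := hj
    haveI : Nonempty (Spec A) := ⟨q ⟨x, hxU⟩⟩
    haveI : Subsingleton (Spec (CommRingCat.of k)) := inferInstanceAs (Subsingleton (PrimeSpectrum k))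
    haveI : IsIso j := isIso_of_isOpenImmersion_of_opensRange_eq_top _
      (top_le_iff.1 fun p _ => ⟨q ⟨x, hxU⟩, Subsingleton.elim _ _⟩)
    have hA : IsField A := by
      exact MulEquiv.isField (Field.toIsField k) ((Scheme.ΓSpecIso (CommRingCat.of k)).symm ≪≫ asIso j.appTop ≪≫
        Scheme.ΓSpecIso A).commRingCatIsoToRingEquiv.toMulEquiv.symm
    obtain ⟨ι, B, g, hg, hgs, hfin, hcov⟩ := exists_branches a hA
    have hirr : IsIrreducible (U.ι ⁻¹' Z) :=
      (preimage_mem_irreducibleComponents hZ U.ι.isOpenEmbedding ⟨x, hxZ, ⟨x, hxU⟩, rfl⟩).1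
    haveI := hg
    obtain ⟨b, hb⟩ : ∃ b, U.ι ⁻¹' Z ⊆ f ⁻¹' Set.range (g b) := by
      haveI := Fintype.ofFinite ι
      by_contra hc
      simp only [not_exists, Set.not_subset] at hc
      have := (isIrreducible_iff_sUnion_isClosed.1 hirr) (Finset.univ.image fun b => f ⁻¹' Set.range (g b))
        (by
          classical
          simp only [Finset.mem_image, Finset.mem_univ, true_and, forall_exists_index, forall_apply_eq_imp_iff]
          exact fun b => (g b).isClosedEmbedding.isClosed_range.preimage f.continuous)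
        (fun p _ => by
          obtain ⟨b, hb⟩ := hcov (f p)
          exact ⟨_, Finset.mem_coe.2 (Finset.mem_image_of_mem _ (Finset.mem_univ b)), hb⟩)
      obtain ⟨t, ht, hsub⟩ := this
      simp only [Finset.mem_image, Finset.mem_univ, true_and] at ht
      obtain ⟨b, rfl⟩ := ht
      obtain ⟨p, hp, hp'⟩ := hc b
      exact hp' (hsub hp)
    refine ⟨U, pullback f (g b), pullback.fst f (g b), hxU, inferInstance, ?_, ?_⟩
    · haveI := hgs b
      rw [hq, ← hfq, Category.assoc, ← Category.assoc, pullback.condition, Category.assoc, ← Category.assoc (g b)]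
      infer_instance
    · rwa [Scheme.Pullback.range_fst]

/-- Components of a strictly semistable curve over a field are smooth. -/
theorem components_smooth (h : ∀ x : C, HasLineChartAt φ i x ∨ HasNodeChartAt φ i x)
    (Z : Set C) (hZ : Z ∈ irreducibleComponents (C : Type u)) :
    ∃ (W : Scheme.{u}) (e : W ⟶ C), IsClosedImmersion e ∧ IsReduced W ∧
      Set.range e.base = Z ∧ Smooth (e ≫ φ) := by
  let T : Closeds C := ⟨Z, isClosed_of_mem_irreducibleComponents _ hZ⟩
  let I := Scheme.IdealSheafData.vanishingIdeal T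
  haveI : IsReduced I.subscheme := Props12.isReduced_subscheme_vanishingIdeal _
  have hr : Set.range I.subschemeι = Z := by rw [Scheme.IdealSheafData.range_subschemeι]; rfl
  refine ⟨I.subscheme, I.subschemeι, inferInstance, inferInstance, hr, ?_⟩
  choose O L e hxO hcl hsm hre using fun w : I.subscheme =>
    exists_local (I.subschemeι w) (h _) Z hZ (hr ▸ ⟨w, rfl⟩)
  refine IsZariskiLocalAtSource.of_iSup_eq_top (fun w => I.subschemeι ⁻¹ᵁ O w)
    (top_le_iff.1 fun w _ => Opens.mem_iSup.2 ⟨w, hxO w⟩) fun w => ?_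
  haveI := hcl w
  haveI := hsm w
  haveI : IsClosedImmersion (I.subschemeι ∣_ O w) := IsZariskiLocalAtTarget.restrict (show IsClosedImmersion I.subschemeι from inferInstance) _
  haveI : AlgebraicGeometry.IsReduced (e w ⁻¹ᵁ O w).toScheme := FlatMorLocalStr.isReduced_of_smooth_field ((e w ⁻¹ᵁ O w).ι ≫ e w ≫ φ)
  obtain ⟨d, hd⟩ := Stk19b.RedInd.exists_iso_of_range_eq (I.subschemeι ∣_ O w) (e w ∣_ O w) (by
    ext ⟨z, hz⟩
    constructor
    · rintro ⟨p, hp⟩
      have hp' := (morphismRestrict_base_coe _ _ p).symm.trans (congrArg Subtype.val hp)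
      have hzZ : z ∈ Z := hr ▸ ⟨_, hp'⟩
      obtain ⟨⟨l, hl⟩, -⟩ := (Set.ext_iff.1 (hre w) z).2 ⟨hzZ, hz⟩
      exact ⟨⟨l, show e w l ∈ O w from hl.symm ▸ hz⟩, Subtype.ext ((morphismRestrict_base_coe _ _ _).trans hl)⟩
    · rintro ⟨p, hp⟩
      have hp' := (morphismRestrict_base_coe _ _ p).symm.trans (congrArg Subtype.val hp)
      obtain ⟨l, hl⟩ : z ∈ Set.range I.subschemeι := hr.symm ▸ ((Set.ext_iff.1 (hre w) z).1 ⟨⟨_, hp'⟩, hz⟩).1
      exact ⟨⟨l, show I.subschemeι l ∈ O w from hl.symm ▸ hz⟩, Subtype.ext ((morphismRestrict_base_coe _ _ _).trans hl)⟩)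
  rw [← morphismRestrict_ι_assoc, ← hd, Category.assoc, morphismRestrict_ι_assoc]
  infer_instance

end Groth.Agent.StrictSS7
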